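import Cfsg.Agent.H644.KGV.Defs
import Cfsg.Agent.Characters.AverageRoots
import Cfsg.Agent.Characters.Brauer
import Cfsg.Agent.OddOrderCharacters.VChar
import Mathlib
import Cfsg.Agent.H500.KGV.Eig
set_option linter.all false

-- part: H719/KGV/Star
section
/-!
# The Gauss sum proof of the k(GV) theorem: orbit products and the product formula STAR
-/

set_option autoImplicit false

namespace Cfsg.Agent.H719.KGV

open Cfsg Finset Polynomial Cfsg.Agent.H644.KGV

/-! ## Roots -/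

theorem mem_roots {n : ℕ} (hn : 0 < n) {b z : ℂ} : z ∈ nthRootsFinset n b ↔ z ^ n = b :=
  mem_nthRootsFinset hn b

theorem ne_zero_of_pow {n : ℕ} (hn : n ≠ 0) {z : ℂ} (h : z ^ n = 1) : z ≠ 0 := by
  rintro rfl
  rw [zero_pow hn] at h
  exact zero_ne_one h

theorem pow_sub_one_iff {q : ℕ} (hq : 0 < q) {z : ℂ} (hz : z ≠ 0) : z ^ (q - 1) = 1 ↔ z ^ q = z := by
  obtain ⟨r, rfl⟩ : ∃ r, q = r + 1 := ⟨q - 1, by omega⟩
  rw [Nat.add_sub_cancel, pow_succ]
  constructor
  · intro h; rw [h, one_mul]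
  · intro h; exact mul_right_cancel₀ hz (by rw [h, one_mul])

theorem q_sub_ne {p f : ℕ} (hp : p.Prime) (hf : 1 ≤ f) : p ^ f - 1 ≠ 0 := by
  have := Nat.one_lt_pow (by omega : f ≠ 0) hp.one_lt
  omega

/-- every root of unity of order prime to `p` has a finite orbit -/
theorem exists_len {p n : ℕ} (hp : p.Prime) (hn : ¬ p ∣ n) {z : ℂ} (hz : z ^ n = 1) (f : ℕ) :
    ∃ e, 1 ≤ e ∧ z ^ (p ^ (f * e) - 1) = 1 := by
  have hn0 : 0 < n := Nat.pos_of_ne_zero fun h => hn (h ▸ dvd_zero p)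
  refine ⟨n.totient, Nat.totient_pos.2 hn0, ?_⟩
  have hco : Nat.Coprime p n := (Nat.Prime.coprime_iff_not_dvd hp).2 hn
  have h1 : p ^ (f * n.totient) ≡ 1 [MOD n] := by
    rw [mul_comm, pow_mul]
    simpa using (Nat.ModEq.pow_totient hco).pow f
  have h2 : n ∣ p ^ (f * n.totient) - 1 :=
    (Nat.modEq_iff_dvd' (Nat.one_le_pow _ _ hp.pos)).1 h1.symm
  obtain ⟨c, hc⟩ := h2
  rw [hc, pow_mul, hz, one_pow]

section

variable {p : ℕ} [hp : Fact p.Prime] {T : ℕ → ℕ → ZMod p}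

/-! ## Frobenius invariance of the Gauss sums -/

theorem PG_pow_p (hT : GaussSys p T) {f : ℕ} (hf : 1 ≤ f) (a : ZMod p) {z : ℂ}
    (hz : z ^ (p ^ f - 1) = 1) : PG p T f a (z ^ p) = PG p T f a z := by
  unfold PG
  congr 1
  have hN : 0 < p ^ f - 1 := Nat.pos_of_ne_zero (q_sub_ne hp.out hf)
  have hco : Nat.Coprime p (p ^ f - 1) := by
    have h1 : Nat.Coprime (p ^ f) (p ^ f - 1) := by
      have : p ^ f = (p ^ f - 1) + 1 := by omega
      conv_lhs => rw [this]
      simp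
    exact Nat.Coprime.coprime_dvd_left (dvd_pow_self p (by omega)) h1
  -- periodic
  have hper : ∀ c j, T f (j + c * (p ^ f - 1)) = T f j := by
    intro c
    induction c with
    | zero => intro j; simp
    | succ c ih =>
      intro j
      rw [Nat.succ_mul, ← add_assoc, hT.per f _ hf, ih]
  have hmod : ∀ j, T f (j % (p ^ f - 1)) = T f j := by
    intro j
    conv_rhs => rw [← Nat.mod_add_div j (p ^ f - 1), mul_comm]
    rw [hper]
  have hzmod : ∀ j, z ^ (j % (p ^ f - 1)) = z ^ j := by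
    intro j
    conv_rhs => rw [← Nat.mod_add_div j (p ^ f - 1), pow_add, pow_mul, hz, one_pow, mul_one]
  refine Finset.sum_bij (fun j _ => (p * j) % (p ^ f - 1)) ?_ ?_ ?_ ?_
  · intro j _
    exact mem_range.2 (Nat.mod_lt _ hN)
  · intro i hi j hj hij
    have h1 : p * i ≡ p * j [MOD p ^ f - 1] := hij
    have h2 : i ≡ j [MOD p ^ f - 1] := Nat.ModEq.cancel_left_of_coprime hco.symm h1
    exact Nat.ModEq.eq_of_lt_of_lt h2 (mem_range.1 hi) (mem_range.1 hj)
  · -- surjective by cardinality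
    intro j hj
    have hinj : Set.InjOn (fun j => (p * j) % (p ^ f - 1)) (range (p ^ f - 1)) := by
      intro i hi j hj hij
      have h1 : p * i ≡ p * j [MOD p ^ f - 1] := hij
      have h2 : i ≡ j [MOD p ^ f - 1] := Nat.ModEq.cancel_left_of_coprime hco.symm h1
      exact Nat.ModEq.eq_of_lt_of_lt h2 (by simpa using hi) (by simpa using hj)
    have himg : (range (p ^ f - 1)).image (fun j => (p * j) % (p ^ f - 1)) = range (p ^ f - 1) := by
      refine Finset.eq_of_subset_of_card_le ?_ ?_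
      · intro x hx
        obtain ⟨y, _, rfl⟩ := Finset.mem_image.1 hx
        exact mem_range.2 (Nat.mod_lt _ hN)
      · rw [Finset.card_image_of_injOn hinj]
    rw [← himg] at hj
    obtain ⟨y, hy, hyj⟩ := Finset.mem_image.1 hj
    exact ⟨y, hy, hyj⟩
  · intro j _
    rw [hmod, hzmod, hT.frob f j hf, ← pow_mul]

theorem pow_unit {m : ℕ} {z : ℂ} (hz : z ^ m = 1) (i : ℕ) : (z ^ i) ^ m = 1 := by
  rw [← pow_mul, mul_comm, pow_mul, hz, one_pow]

theorem PG_pow (hT : GaussSys p T) {f : ℕ} (hf : 1 ≤ f) (a : ZMod p) {z : ℂ}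
    (hz : z ^ (p ^ f - 1) = 1) (i : ℕ) : PG p T f a (z ^ (p ^ i)) = PG p T f a z := by
  induction i with
  | zero => simp
  | succ i ih => rw [pow_succ, pow_mul, PG_pow_p hT hf a (pow_unit hz _), ih]

/-! ## Orbit functions -/

/-- the value at an element of the field itself -/
theorem OrbFun.base {f : ℕ} {a : ZMod p} {F : ℂ → ℂ} (h : OrbFun p T f a F) {z : ℂ}
    (hz : z ^ (p ^ f - 1) = 1) : F z = PG p T f a z := by
  have := h 1 z le_rfl (by rwa [mul_one])
  simpa using this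

omit hp in
theorem prod_range_mul {f : ℕ} (F : ℂ → ℂ) (z : ℂ) (e m : ℕ) :
    ∏ i ∈ range e, ∏ j ∈ range m, F ((z ^ (p ^ (f * m * i))) ^ (p ^ (f * j))) =
      ∏ i ∈ range (m * e), F (z ^ (p ^ (f * i))) := by
  induction e with
  | zero => simp
  | succ e ih =>
    rw [prod_range_succ, ih, Nat.mul_succ, prod_range_add]
    congr 1
    refine prod_congr rfl fun j _ => ?_
    rw [← pow_mul, ← pow_add]
    congr 3
    ring

/-- The orbit function of the field extension of degree `m`. -/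
theorem OrbFun.ext {f : ℕ} {a : ZMod p} {F : ℂ → ℂ} (h : OrbFun p T f a F) {m : ℕ}
    (hm : 1 ≤ m) : OrbFun p T (f * m) a (fun z => ∏ i ∈ range m, F (z ^ (p ^ (f * i)))) := by
  intro e z he hz
  rw [prod_range_mul]
  rw [h (m * e) z (by nlinarith) (by rwa [← mul_assoc]), mul_assoc]

/-- orbit length of `z` -/
noncomputable def len (p f : ℕ) (z : ℂ) : ℕ := by
  classical
  exact if h : ∃ e, 1 ≤ e ∧ z ^ (p ^ (f * e)) = z then Nat.find h else 1

omit hp in
theorem len_spec {f : ℕ} {z : ℂ} {e : ℕ} (he : 1 ≤ e) (h : z ^ (p ^ (f * e)) = z) :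
    1 ≤ len p f z ∧ z ^ (p ^ (f * len p f z)) = z ∧ len p f z ∣ e := by
  classical
  have hex : ∃ e, 1 ≤ e ∧ z ^ (p ^ (f * e)) = z := ⟨e, he, h⟩
  have hl : len p f z = Nat.find hex := by
    unfold len; rw [dif_pos hex]
  have hs := Nat.find_spec hex
  rw [← hl] at hs
  refine ⟨hs.1, hs.2, ?_⟩
  -- minimality
  have hmul : ∀ c, z ^ (p ^ (f * (len p f z * c))) = z := by
    intro c
    induction c with
    | zero => simp
    | succ c ih =>
      rw [Nat.mul_succ, Nat.mul_add, pow_add, pow_mul, ih, hs.2]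
  have hr : z ^ (p ^ (f * (e % len p f z))) = z := by
    have h1 : e = len p f z * (e / len p f z) + e % len p f z := (Nat.div_add_mod e _).symm
    rw [h1, Nat.mul_add, pow_add, pow_mul, hmul] at h
    exact h
  by_contra hnd
  have hpos : 1 ≤ e % len p f z := Nat.pos_of_ne_zero fun h0 => hnd (Nat.dvd_of_mod_eq_zero h0)
  have hlt : e % len p f z < len p f z := Nat.mod_lt _ hs.1
  exact Nat.find_min hex (by rw [← hl]; exact hlt) ⟨hpos, hr⟩

theorem pow_q_inj {f : ℕ} {z w : ℂ} {n : ℕ} (hn : ¬ p ∣ n) (hz : z ^ n = 1) (hw : w ^ n = 1)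
    (h : z ^ (p ^ f) = w ^ (p ^ f)) : z = w := by
  have hn0 : n ≠ 0 := fun h => hn (h ▸ dvd_zero p)
  have hw0 : w ≠ 0 := ne_zero_of_pow hn0 hw
  have h1 : (z / w) ^ n = 1 := by rw [div_pow, hz, hw, div_one]
  have h2 : (z / w) ^ (p ^ f) = 1 := by
    rw [div_pow, h, div_self (pow_ne_zero _ hw0)]
  have hco : Nat.Coprime n (p ^ f) :=
    Nat.Coprime.pow_right _ ((Nat.Prime.coprime_iff_not_dvd hp.out).2 hn).symm
  have h3 : orderOf (z / w) ∣ 1 := by
    rw [← Nat.coprime_iff_gcd_eq_one.1 hco]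
    exact Nat.dvd_gcd (orderOf_dvd_of_pow_eq_one h1) (orderOf_dvd_of_pow_eq_one h2)
  have h4 : z / w = 1 := by
    rw [← orderOf_eq_one_iff]; exact Nat.dvd_one.1 h3
  field_simp at h4
  exact h4

theorem not_dvd_q_sub {f : ℕ} (hf : 1 ≤ f) : ¬ p ∣ p ^ f - 1 := by
  intro h
  have h1 : p ∣ p ^ f := dvd_pow_self p (by omega)
  have h2 : 1 ≤ p ^ f := Nat.one_le_pow _ _ hp.out.pos
  have h3 : p ∣ p ^ f - (p ^ f - 1) := Nat.dvd_sub h1 h
  rw [Nat.sub_sub_self h2] at h3
  exact hp.out.one_lt.ne' (Nat.dvd_one.1 h3)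

/-- the orbit length is constant on orbits -/
theorem len_pow {f : ℕ} {z : ℂ} {n : ℕ} (hn : ¬ p ∣ n) (hz : z ^ n = 1) (i : ℕ) :
    len p f (z ^ (p ^ (f * i))) = len p f z := by
  classical
  have hiff : ∀ e, (z ^ (p ^ (f * i))) ^ (p ^ (f * e)) = z ^ (p ^ (f * i)) ↔
      z ^ (p ^ (f * e)) = z := by
    intro e
    rw [← pow_mul, mul_comm (p ^ (f * i)), pow_mul]
    constructor
    · intro h
      exact pow_q_inj hn (pow_unit hz _) hz h
    · intro h; rw [h]
  unfold len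
  simp only [hiff]

/-- Existence of orbit functions. -/
theorem exists_orbFun (hT : GaussSys p T) {f : ℕ} (hf : 1 ≤ f) {a : ZMod p} (ha : a ≠ 0) :
    ∃ F, OrbFun p T f a F := by
  refine ⟨fun z => (PG p T (f * len p f z) a z) ^ ((len p f z : ℂ)⁻¹), ?_⟩
  intro e z he hz
  have hfe : 1 ≤ f * e := Nat.mul_pos hf he
  have hz0 : z ≠ 0 := ne_zero_of_pow (q_sub_ne hp.out hfe) hz
  have hze : z ^ (p ^ (f * e)) = z :=
    (pow_sub_one_iff (pow_pos hp.out.pos _) hz0).1 hz
  obtain ⟨hl1, hl2, c, hc⟩ := len_spec (p := p) (f := f) he hze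
  set L := len p f z with hL
  have hfL : 1 ≤ f * L := Nat.mul_pos hf hl1
  have hzL : z ^ (p ^ (f * L) - 1) = 1 :=
    (pow_sub_one_iff (pow_pos hp.out.pos _) hz0).2 hl2
  have hconst : ∀ i ∈ range e, (PG p T (f * len p f (z ^ (p ^ (f * i)))) a (z ^ (p ^ (f * i)))) ^
      ((len p f (z ^ (p ^ (f * i))) : ℂ)⁻¹) = (PG p T (f * L) a z) ^ ((L : ℂ)⁻¹) := by
    intro i _
    rw [len_pow (not_dvd_q_sub hfe) hz i, ← hL, PG_pow hT hfL a hzL]
  rw [prod_congr rfl hconst, prod_const, card_range, hc, pow_mul,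
    Complex.cpow_nat_inv_pow _ (by omega : L ≠ 0), ← mul_assoc, hT.lift (f * L) c a z hfL ?_ ha hzL]
  rcases Nat.eq_zero_or_pos c with h | h
  · rw [h, mul_zero] at hc; omega
  · exact h

/-! ## Products over multisets stable under the Frobenius map -/

/-- the multiset orbit -/
theorem orbit_le {f : ℕ} {n : ℕ} (hn : ¬ p ∣ n) {M : Multiset ℂ} (h1 : ∀ z ∈ M, z ^ n = 1)
    (hM : M.map (fun z => z ^ (p ^ f)) = M) {z : ℂ} (hz : z ∈ M) :
    ((Multiset.range (len p f z)).map fun i => z ^ (p ^ (f * i))) ≤ M := by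
  have hmem : ∀ i, z ^ (p ^ (f * i)) ∈ M := by
    intro i
    induction i with
    | zero => simpa using hz
    | succ i ih =>
      rw [← hM, Multiset.mem_map]
      exact ⟨_, ih, by rw [← pow_mul, ← pow_add, Nat.mul_succ]⟩
  obtain ⟨e, he, hze⟩ := exists_len hp.out hn (h1 z hz) f
  have hn0 : n ≠ 0 := fun h => hn (h ▸ dvd_zero p)
  have hz0 : z ≠ 0 := ne_zero_of_pow hn0 (h1 z hz)
  have hze' : z ^ (p ^ (f * e)) = z := (pow_sub_one_iff (pow_pos hp.out.pos _) hz0).1 hze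
  refine (Multiset.le_iff_subset ?_).2 ?_
  · refine (Multiset.nodup_range _).map_on ?_
    have key : ∀ i j, i < len p f z → j < len p f z → i < j →
        z ^ (p ^ (f * i)) ≠ z ^ (p ^ (f * j)) := by
      intro i j hi hj hij heq
      obtain ⟨d, rfl⟩ : ∃ d, j = i + d := ⟨j - i, by omega⟩
      rw [Nat.mul_add, pow_add, mul_comm (p ^ (f * i)) (p ^ (f * d)),
        pow_mul z (p ^ (f * d))] at heq
      have h2 := pow_q_inj (p := p) hn (h1 z hz) (pow_unit (h1 z hz) _) heq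
      have h3 := (len_spec (p := p) (f := f) (by omega : 1 ≤ d) h2.symm).2.2
      exact absurd (Nat.le_of_dvd (by omega) h3) (by omega)
    intro i hi j hj heq
    rw [Multiset.mem_range] at hi hj
    rcases lt_trichotomy i j with h | h | h
    · exact absurd heq (key i j hi hj h)
    · exact h
    · exact absurd heq.symm (key j i hj hi h)
  · intro w hw
    obtain ⟨i, _, rfl⟩ := Multiset.mem_map.1 hw
    exact hmem i

/-- ORB: products over a multiset of roots of unity stable under `z ↦ z ^ q` can be compared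
orbit by orbit. -/
theorem orb_prod {f n : ℕ} (hn : ¬ p ∣ n) (M : Multiset ℂ) (h1 : ∀ z ∈ M, z ^ n = 1)
    (hM : M.map (fun z => z ^ (p ^ f)) = M) (G1 G2 : ℂ → ℂ)
    (h : ∀ z ∈ M, ∀ e, 1 ≤ e → z ^ (p ^ (f * e) - 1) = 1 →
      ∏ i ∈ range e, G1 (z ^ (p ^ (f * i))) = ∏ i ∈ range e, G2 (z ^ (p ^ (f * i)))) :
    (M.map G1).prod = (M.map G2).prod := by
  induction hc : M.card using Nat.strong_induction_on generalizing M with
  | _ c ih =>
    subst hc
    rcases Multiset.empty_or_exists_mem M with rfl | ⟨z, hz⟩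
    · simp
    obtain ⟨M', hM'⟩ := Multiset.le_iff_exists_add.1 (orbit_le hn h1 hM hz)
    obtain ⟨e, he, hze⟩ := exists_len hp.out hn (h1 z hz) f
    have hn0 : n ≠ 0 := fun h => hn (h ▸ dvd_zero p)
    have hz0 : z ≠ 0 := ne_zero_of_pow hn0 (h1 z hz)
    have hze' : z ^ (p ^ (f * e)) = z := (pow_sub_one_iff (pow_pos hp.out.pos _) hz0).1 hze
    obtain ⟨hl1, hl2, -⟩ := len_spec (p := p) (f := f) he hze'
    set L := len p f z with hL
    set O := (Multiset.range L).map fun i => z ^ (p ^ (f * i)) with hO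
    -- the orbit is stable
    have hOs : O.map (fun z => z ^ (p ^ f)) = O := by
      rw [hO, Multiset.map_map]
      obtain ⟨L', hL'⟩ : ∃ L', L = L' + 1 := ⟨L - 1, by omega⟩
      have e1 : (Multiset.range L).map ((fun z => z ^ (p ^ f)) ∘ fun i => z ^ (p ^ (f * i))) =
          (Multiset.range L).map (fun i => z ^ (p ^ (f * (i + 1)))) := by
        refine Multiset.map_congr rfl fun i _ => ?_
        simp only [Function.comp]
        rw [← pow_mul, ← pow_add, Nat.mul_succ]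
      rw [e1, hL']
      have e2 : (Multiset.range (L' + 1)).map (fun i => z ^ (p ^ (f * (i + 1)))) =
          z ^ (p ^ (f * (L' + 1))) ::ₘ (Multiset.range L').map (fun i => z ^ (p ^ (f * (i + 1)))) := by
        rw [Multiset.range_succ, Multiset.map_cons]
      have e3 : (Multiset.range (L' + 1)).map (fun i => z ^ (p ^ (f * i))) =
          z ^ (p ^ (f * 0)) ::ₘ (Multiset.range L').map (fun i => z ^ (p ^ (f * (i + 1)))) := by
        have : Multiset.range (L' + 1) = 0 ::ₘ (Multiset.range L').map (· + 1) := by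
          rw [← Multiset.coe_range, ← Multiset.coe_range, List.range_succ_eq_map]
          simp
        rw [this, Multiset.map_cons, Multiset.map_map]
        rfl
      rw [e2, e3, ← hL', hl2]
      simp
    have hM's : M'.map (fun z => z ^ (p ^ f)) = M' := by
      have := hM
      rw [hM', Multiset.map_add, hOs] at this
      exact add_left_cancel this
    have hlt : M'.card < M.card := by
      rw [hM', Multiset.card_add, hO, Multiset.card_map, Multiset.card_range]; omega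
    have hsub : ∀ w ∈ M', w ∈ M := fun w hw => by rw [hM']; exact Multiset.mem_add.2 (Or.inr hw)
    have hih := ih _ hlt M' (fun w hw => h1 w (hsub w hw)) hM's
      (fun w hw => h w (hsub w hw)) rfl
    have hLz : z ^ (p ^ (f * L) - 1) = 1 :=
      (pow_sub_one_iff (pow_pos hp.out.pos _) hz0).2 hl2
    have hz' := h z hz L hl1 hLz
    rw [hM', Multiset.map_add, Multiset.map_add, Multiset.prod_add, Multiset.prod_add, hih]
    congr 1
    rw [hO, Multiset.map_map, Multiset.map_map]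
    exact hz'

/-! ## Products over roots -/

omit hp in
theorem prod_roots_mul {r : ℕ} (hr : 0 < r) {β : ℂ} (hβ : β ≠ 0) (F : ℂ → ℂ) :
    ∏ z ∈ nthRootsFinset r (β ^ r), F z = ∏ w ∈ nthRootsFinset r (1 : ℂ), F (β * w) := by
  symm
  refine Finset.prod_bij (fun w _ => β * w) ?_ ?_ ?_ ?_
  · intro w hw
    rw [mem_roots hr] at hw ⊢
    rw [mul_pow, hw, mul_one]
  · intro w _ w' _ h
    exact mul_left_cancel₀ hβ h
  · intro z hz
    rw [mem_roots hr] at hz
    refine ⟨z / β, ?_, by field_simp⟩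
    rw [mem_roots hr, div_pow, hz, div_self (pow_ne_zero _ hβ)]
  · intro w _; rfl

theorem prod_roots_one_pow {r : ℕ} (hr : ¬ p ∣ r) (j : ℕ) (F : ℂ → ℂ) :
    ∏ w ∈ nthRootsFinset r (1 : ℂ), F (w ^ (p ^ j)) = ∏ w ∈ nthRootsFinset r (1 : ℂ), F w := by
  have hr0 : 0 < r := Nat.pos_of_ne_zero fun h => hr (h ▸ dvd_zero p)
  have hinj : Set.InjOn (fun w : ℂ => w ^ (p ^ j)) (nthRootsFinset r (1 : ℂ)) := by
    intro z hz w hw h
    have hz' := (mem_roots hr0).1 (Finset.mem_coe.1 hz)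
    have hw' := (mem_roots hr0).1 (Finset.mem_coe.1 hw)
    exact pow_q_inj (p := p) hr hz' hw' h
  have himg : (nthRootsFinset r (1 : ℂ)).image (fun w : ℂ => w ^ (p ^ j)) =
      nthRootsFinset r (1 : ℂ) := by
    refine Finset.eq_of_subset_of_card_le ?_ ?_
    · intro x hx
      obtain ⟨y, hy, rfl⟩ := Finset.mem_image.1 hx
      rw [mem_roots hr0] at hy ⊢
      exact pow_unit hy _
    · rw [Finset.card_image_of_injOn hinj]
  conv_rhs => rw [← himg]
  rw [Finset.prod_image hinj]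

theorem prod_roots_pow {r : ℕ} (hr : ¬ p ∣ r) (j : ℕ) {b : ℂ} (hb : b ≠ 0) (F : ℂ → ℂ) :
    ∏ z ∈ nthRootsFinset r (b ^ (p ^ j)), F z =
      ∏ z ∈ nthRootsFinset r b, F (z ^ (p ^ j)) := by
  have hr0 : 0 < r := Nat.pos_of_ne_zero fun h => hr (h ▸ dvd_zero p)
  obtain ⟨β, rfl⟩ := IsAlgClosed.exists_pow_nat_eq b hr0
  have hβ : β ≠ 0 := by
    rintro rfl
    exact hb (zero_pow (by omega))
  rw [← pow_mul, mul_comm r, pow_mul, prod_roots_mul hr0 (pow_ne_zero _ hβ), prod_roots_mul hr0 hβ]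
  simp only [mul_pow]
  exact (prod_roots_one_pow hr j (fun w => F (β ^ (p ^ j) * w))).symm

omit hp in
theorem prod_roots_comp {r s : ℕ} (hr : 0 < r) (hs : 0 < s) (b : ℂ) (F : ℂ → ℂ) :
    ∏ z ∈ nthRootsFinset (r * s) b, F z =
      ∏ y ∈ nthRootsFinset s b, ∏ z ∈ nthRootsFinset r y, F z := by
  classical
  rw [← Finset.prod_fiberwise_of_maps_to (s := nthRootsFinset (r * s) b) (t := nthRootsFinset s b)
    (g := fun z => z ^ r)]
  · refine Finset.prod_congr rfl fun y hy => Finset.prod_congr ?_ fun _ _ => rfl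
    ext z
    rw [Finset.mem_filter, mem_roots hr, mem_roots (Nat.mul_pos hr hs)]
    rw [mem_roots hs] at hy
    constructor
    · exact fun h => h.2
    · intro h
      exact ⟨by rw [pow_mul, h, hy], h⟩
  · intro z hz
    rw [mem_roots (Nat.mul_pos hr hs)] at hz
    rw [mem_roots hs, ← pow_mul, hz]

theorem prod_orbit_roots {r f : ℕ} (hr : ¬ p ∣ r) {b : ℂ} (hb : b ≠ 0) (m : ℕ) (F : ℂ → ℂ) :
    ∏ i ∈ range m, ∏ z ∈ nthRootsFinset r (b ^ (p ^ (f * i))), F z =
      ∏ z ∈ nthRootsFinset r b, ∏ i ∈ range m, F (z ^ (p ^ (f * i))) := by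
  rw [Finset.prod_comm]
  exact Finset.prod_congr rfl fun i _ => prod_roots_pow hr _ hb F

theorem prod_one_ext {r f : ℕ} (hr : ¬ p ∣ r) (m : ℕ) (F : ℂ → ℂ) :
    ∏ z ∈ nthRootsFinset r (1 : ℂ), ∏ i ∈ range m, F (z ^ (p ^ (f * i))) =
      (∏ z ∈ nthRootsFinset r (1 : ℂ), F z) ^ m := by
  rw [Finset.prod_comm, Finset.prod_congr rfl fun i _ => prod_roots_one_pow hr (f * i) F,
    prod_const, card_range]

/-! ## The product formula -/

theorem natCast_ne_zero {f ℓ : ℕ} (hf : 1 ≤ f) (hd : ℓ ∣ p ^ f - 1) : (ℓ : ZMod p) ≠ 0 := by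
  intro h
  exact not_dvd_q_sub hf (((ZMod.natCast_eq_zero_iff _ _).1 h).trans hd)

theorem not_dvd_of_dvd {f ℓ : ℕ} (hf : 1 ≤ f) (hd : ℓ ∣ p ^ f - 1) : ¬ p ∣ ℓ :=
  fun h => not_dvd_q_sub hf (h.trans hd)

/-- the `ℓ`-th roots of `b` when there is none in the field with `q` elements -/
theorem roots_nonsplit {f ℓ : ℕ} (hf : 1 ≤ f) (hℓ : ℓ.Prime) (hd : ℓ ∣ p ^ f - 1) {z : ℂ}
    (hz : (z ^ ℓ) ^ (p ^ f - 1) = 1) (hz1 : z ^ (p ^ f - 1) ≠ 1) (G : ℂ → ℂ) :
    (∏ y ∈ nthRootsFinset ℓ (z ^ ℓ), G y = ∏ i ∈ range ℓ, G (z ^ (p ^ (f * i)))) ∧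
      z ^ (p ^ (f * ℓ) - 1) = 1 := by
  have hz0 : z ≠ 0 := by
    rintro rfl
    rw [zero_pow hℓ.ne_zero, zero_pow (q_sub_ne hp.out hf)] at hz
    exact zero_ne_one hz
  set u := z ^ (p ^ f - 1) with hu
  have hul : u ^ ℓ = 1 := by
    rw [hu, ← pow_mul, mul_comm, pow_mul]; exact hz
  have huq : u ^ (p ^ f) = u := by
    have h1 : u ^ (p ^ f - 1) = 1 := by
      obtain ⟨c, hc⟩ := hd
      rw [hc, pow_mul, hul, one_pow]
    exact (pow_sub_one_iff (pow_pos hp.out.pos _) (pow_ne_zero _ hz0)).1 h1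
  have hzq : z ^ (p ^ f) = z * u := by
    rw [hu, ← pow_succ']
    congr 1
    have := Nat.one_le_pow f p hp.out.pos
    omega
  have hpow : ∀ i, z ^ (p ^ (f * i)) = z * u ^ i := by
    intro i
    induction i with
    | zero => simp
    | succ i ih =>
      rw [Nat.mul_succ, pow_add, pow_mul, ih, mul_pow, hzq, ← pow_mul, mul_comm i, pow_mul, huq,
        pow_succ']
      ring
  have hprim : IsPrimitiveRoot u ℓ := by
    haveI := Fact.mk hℓ
    have h1 : orderOf u = ℓ := orderOf_eq_prime hul hz1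
    rw [← h1]; exact IsPrimitiveRoot.orderOf u
  constructor
  · rw [prod_roots_mul hℓ.pos hz0]
    have himg : nthRootsFinset ℓ (1 : ℂ) = (range ℓ).image (fun i => u ^ i) := by
      symm
      refine Finset.eq_of_subset_of_card_le ?_ ?_
      · intro x hx
        obtain ⟨i, _, rfl⟩ := Finset.mem_image.1 hx
        rw [mem_roots hℓ.pos, ← pow_mul, mul_comm, pow_mul, hul, one_pow]
      · rw [hprim.card_nthRootsFinset, Finset.card_image_of_injOn, card_range]
        intro i hi j hj hij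
        exact hprim.pow_inj (by simpa using hi) (by simpa using hj) hij
    rw [himg, Finset.prod_image]
    · exact Finset.prod_congr rfl fun i _ => by rw [hpow]
    · intro i hi j hj hij
      exact hprim.pow_inj (by simpa using hi) (by simpa using hj) hij
  · rw [pow_sub_one_iff (pow_pos hp.out.pos _) hz0, hpow, hul, mul_one]

/-- the induction step of the product formula -/
theorem star_step (hT : GaussSys p T) {ℓ : ℕ} (hℓ : ℓ.Prime) {a : ZMod p} (ha : a ≠ 0) (k : ℕ)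
    (ih : ∀ {f : ℕ}, 1 ≤ f → ℓ ∣ p ^ f - 1 → ∀ {F : ℂ → ℂ}, OrbFun p T f a F → ∀ {b : ℂ},
      b ^ (p ^ f - 1) = 1 → ∏ z ∈ nthRootsFinset (ℓ ^ k) b, F z =
        PG p T f ((ℓ : ZMod p) ^ k * a) b * ∏ z ∈ nthRootsFinset (ℓ ^ k) (1 : ℂ), F z)
    {f : ℕ} (hf : 1 ≤ f) (hd : ℓ ∣ p ^ f - 1) {F : ℂ → ℂ} (hF : OrbFun p T f a F) {b : ℂ}
    (hb : b ^ (p ^ f - 1) = 1) :
    ∏ z ∈ nthRootsFinset (ℓ ^ (k + 1)) b, F z =
        PG p T f ((ℓ : ZMod p) ^ (k + 1) * a) b *
          (cG p T f ℓ ((ℓ : ZMod p) ^ k * a) *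
            (∏ z ∈ nthRootsFinset (ℓ ^ k) (1 : ℂ), F z) ^ ℓ) := by
  have hl0 : (ℓ : ZMod p) ≠ 0 := natCast_ne_zero hf hd
  have hpl : ¬ p ∣ ℓ := not_dvd_of_dvd hf hd
  have hpk : ¬ p ∣ ℓ ^ k := fun h => hpl (hp.out.dvd_of_dvd_pow h)
  have hlk : 0 < ℓ ^ k := pow_pos hℓ.pos _
  have ha' : (ℓ : ZMod p) ^ k * a ≠ 0 := mul_ne_zero (pow_ne_zero _ hl0) ha
  have hae : (ℓ : ZMod p) ^ (k + 1) * a = (ℓ : ZMod p) * ((ℓ : ZMod p) ^ k * a) := by ring
  rw [pow_succ ℓ k, prod_roots_comp hlk hℓ.pos]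
  have hb0 : b ≠ 0 := ne_zero_of_pow (q_sub_ne hp.out hf) hb
  obtain ⟨z, rfl⟩ := IsAlgClosed.exists_pow_nat_eq b hℓ.pos
  have hz0 : z ≠ 0 := by
    rintro rfl
    exact hb0 (zero_pow hℓ.ne_zero)
  by_cases hz1 : z ^ (p ^ f - 1) = 1
  · -- split
    rw [prod_roots_mul hℓ.pos hz0]
    have hw : ∀ w ∈ nthRootsFinset ℓ (1 : ℂ), (z * w) ^ (p ^ f - 1) = 1 := by
      intro w hw
      rw [mem_roots hℓ.pos] at hw
      obtain ⟨c, hc⟩ := hd
      rw [mul_pow, hz1, one_mul, hc, pow_mul, hw, one_pow]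
    rw [Finset.prod_congr rfl fun w hw' => ih hf hd hF (hw w hw'), Finset.prod_mul_distrib,
      hT.split f ℓ _ z hf hℓ hd ha' hz1, prod_const, hae, mul_assoc]
    congr 3
    obtain ⟨c, hc⟩ := hd
    have hprim : ∃ ζ : ℂ, IsPrimitiveRoot ζ ℓ := ⟨_, Complex.isPrimitiveRoot_exp ℓ hℓ.ne_zero⟩
    obtain ⟨ζ, hζ⟩ := hprim
    exact hζ.card_nthRootsFinset
  · -- nonsplit
    obtain ⟨h1, h2⟩ := roots_nonsplit hf hℓ hd hb hz1
      (fun y => ∏ z ∈ nthRootsFinset (ℓ ^ k) y, F z)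
    have hfl : 1 ≤ f * ℓ := Nat.mul_pos hf hℓ.pos
    have hdl : ℓ ∣ p ^ (f * ℓ) - 1 := by
      refine hd.trans ?_
      rw [pow_mul]
      simpa using Nat.sub_dvd_pow_sub_pow (p ^ f) 1 ℓ
    rw [h1, prod_orbit_roots hpk hz0, ih hfl hdl (OrbFun.ext hF hℓ.pos) h2, prod_one_ext hpk,
      hT.nonsplit f ℓ _ z hf hℓ hd ha' hb hz1, hae, mul_assoc]

/-- STAR: the product formula for `ℓ ^ k`. -/
theorem star (hT : GaussSys p T) {ℓ : ℕ} (hℓ : ℓ.Prime) {a : ZMod p} (ha : a ≠ 0) (k : ℕ) :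
    ∀ {f : ℕ}, 1 ≤ f → ℓ ∣ p ^ f - 1 → ∀ {F : ℂ → ℂ}, OrbFun p T f a F → ∀ {b : ℂ},
      b ^ (p ^ f - 1) = 1 → ∏ z ∈ nthRootsFinset (ℓ ^ k) b, F z =
        PG p T f ((ℓ : ZMod p) ^ k * a) b * ∏ z ∈ nthRootsFinset (ℓ ^ k) (1 : ℂ), F z := by
  induction k with
  | zero =>
    intro f hf hd F hF b hb
    have hr : ∀ b : ℂ, nthRootsFinset (ℓ ^ 0) b = {b} := by
      intro b
      ext z
      rw [pow_zero, mem_roots one_pos, pow_one, Finset.mem_singleton]
    rw [hr, hr, prod_singleton, prod_singleton, OrbFun.base hF hb,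
      OrbFun.base hF (one_pow _), hT.one f a hf ha, mul_one, pow_zero, one_mul]
  | succ k ih =>
    intro f hf hd F hF b hb
    have hl0 : (ℓ : ZMod p) ≠ 0 := natCast_ne_zero hf hd
    rw [star_step hT hℓ ha k ih hf hd hF hb, star_step hT hℓ ha k ih hf hd hF (one_pow _),
      hT.one f _ hf (mul_ne_zero (pow_ne_zero _ hl0) ha), one_mul]

/-- The product of `F` over the `ℓ ^ (k + 1)`-th roots of unity. -/
theorem star_const (hT : GaussSys p T) {ℓ : ℕ} (hℓ : ℓ.Prime) {a : ZMod p} (ha : a ≠ 0) (k : ℕ)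
    {f : ℕ} (hf : 1 ≤ f) (hd : ℓ ∣ p ^ f - 1) {F : ℂ → ℂ} (hF : OrbFun p T f a F) :
    ∏ z ∈ nthRootsFinset (ℓ ^ (k + 1)) (1 : ℂ), F z =
      cG p T f ℓ ((ℓ : ZMod p) ^ k * a) * (∏ z ∈ nthRootsFinset (ℓ ^ k) (1 : ℂ), F z) ^ ℓ := by
  have hl0 : (ℓ : ZMod p) ≠ 0 := natCast_ne_zero hf hd
  rw [star_step hT hℓ ha k (star hT hℓ ha k) hf hd hF (one_pow _),
    hT.one f _ hf (mul_ne_zero (pow_ne_zero _ hl0) ha), one_mul]

/-- the case `k = 1` -/
theorem star_one (hT : GaussSys p T) {ℓ : ℕ} (hℓ : ℓ.Prime) {a : ZMod p} (ha : a ≠ 0)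
    {f : ℕ} (hf : 1 ≤ f) (hd : ℓ ∣ p ^ f - 1) {F : ℂ → ℂ} (hF : OrbFun p T f a F) {b : ℂ}
    (hb : b ^ (p ^ f - 1) = 1) :
    ∏ z ∈ nthRootsFinset ℓ b, F z = PG p T f ((ℓ : ZMod p) * a) b * cG p T f ℓ a := by
  have h := star_step hT hℓ ha 0 (star hT hℓ ha 0) hf hd hF hb
  have hr : nthRootsFinset (ℓ ^ 0) (1 : ℂ) = {1} := by
    ext z
    rw [pow_zero, mem_roots one_pos, pow_one, Finset.mem_singleton]
  rw [hr, prod_singleton, OrbFun.base hF (one_pow _), hT.one f a hf ha, one_pow, mul_one] at h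
  simpa using h

/-- STAR for an orbit: `b` in the field of degree `m` over the field with `p ^ f` elements. -/
theorem star_orbit (hT : GaussSys p T) {ℓ : ℕ} (hℓ : ℓ.Prime) {a : ZMod p} (ha : a ≠ 0) (k : ℕ)
    {f m : ℕ} (hf : 1 ≤ f) (hm : 1 ≤ m) (hd : ℓ ∣ p ^ f - 1) {F : ℂ → ℂ} (hF : OrbFun p T f a F)
    {b : ℂ} (hb : b ^ (p ^ (f * m) - 1) = 1) :
    ∏ i ∈ range m, ∏ z ∈ nthRootsFinset (ℓ ^ k) (b ^ (p ^ (f * i))), F z =
      PG p T (f * m) ((ℓ : ZMod p) ^ k * a) b *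
        (∏ z ∈ nthRootsFinset (ℓ ^ k) (1 : ℂ), F z) ^ m := by
  have hpl : ¬ p ∣ ℓ := not_dvd_of_dvd hf hd
  have hpk : ¬ p ∣ ℓ ^ k := fun h => hpl (hp.out.dvd_of_dvd_pow h)
  have hfm : 1 ≤ f * m := Nat.mul_pos hf hm
  have hdm : ℓ ∣ p ^ (f * m) - 1 := by
    refine hd.trans ?_
    rw [pow_mul]
    simpa using Nat.sub_dvd_pow_sub_pow (p ^ f) 1 m
  have hb0 : b ≠ 0 := ne_zero_of_pow (q_sub_ne hp.out hfm) hb
  rw [prod_orbit_roots hpk hb0, star hT hℓ ha k hfm hdm (OrbFun.ext hF hm) hb, prod_one_ext hpk]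

/-- STAR for a Frobenius stable multiset (`k = 1`), in the form used for the inductive step. -/
theorem star_multiset (hT : GaussSys p T) {ℓ : ℕ} (hℓ : ℓ.Prime) {a : ZMod p} (ha : a ≠ 0)
    {f : ℕ} (hf : 1 ≤ f) (hd : ℓ ∣ p ^ f - 1) {F F' : ℂ → ℂ} (hF : OrbFun p T f a F)
    (hF' : OrbFun p T f ((ℓ : ZMod p) * a) F') {n : ℕ} (hn : ¬ p ∣ n) (M : Multiset ℂ)
    (h1 : ∀ z ∈ M, z ^ n = 1) (hM : M.map (fun z => z ^ (p ^ f)) = M) :
    (M.map fun w => ∏ z ∈ nthRootsFinset ℓ w, F z).prod =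
      (M.map F').prod * cG p T f ℓ a ^ M.card := by
  have key : (M.map fun w => ∏ z ∈ nthRootsFinset ℓ w, F z).prod =
      (M.map fun w => F' w * cG p T f ℓ a).prod := by
    refine orb_prod hn M h1 hM _ _ ?_
    intro z hz e he hze
    have h2 := star_orbit hT hℓ ha 1 hf he hd hF hze
    have h3 := star_one hT hℓ ha hf hd hF (one_pow (p ^ f - 1) : (1 : ℂ) ^ (p ^ f - 1) = 1)
    rw [pow_one, pow_one, h3, hT.one f _ hf (mul_ne_zero (natCast_ne_zero hf hd) ha), one_mul] at h2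
    rw [h2, Finset.prod_mul_distrib, hF' e z he hze, prod_const, card_range]
  rw [key, Multiset.prod_map_mul]
  simp

/-- the same with the multiset of all the `ℓ`-th roots -/
theorem star_bind (hT : GaussSys p T) {ℓ : ℕ} (hℓ : ℓ.Prime) {a : ZMod p} (ha : a ≠ 0)
    {f : ℕ} (hf : 1 ≤ f) (hd : ℓ ∣ p ^ f - 1) {F F' : ℂ → ℂ} (hF : OrbFun p T f a F)
    (hF' : OrbFun p T f ((ℓ : ZMod p) * a) F') {n : ℕ} (hn : ¬ p ∣ n) (M : Multiset ℂ)
    (h1 : ∀ z ∈ M, z ^ n = 1) (hM : M.map (fun z => z ^ (p ^ f)) = M) :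
    ((M.bind fun w => (nthRootsFinset ℓ w).val).map F).prod =
      (M.map F').prod * cG p T f ℓ a ^ M.card := by
  rw [← star_multiset hT hℓ ha hf hd hF hF' hn M h1 hM, Multiset.map_bind, Multiset.prod_bind]
  rfl

end

end Cfsg.Agent.H719.KGV
end

-- part: H688/KGV/UIntBasic
section
/-!
# Closure properties of uniformly integral families of class functions
-/

set_option autoImplicit false

open Cfsg Finset
open scoped ComplexConjugate

namespace Cfsg.Agent.H688.KGV.UI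

open Cfsg.Agent.H644.KGV Cfsg.Agent.Characters Cfsg.Agent.OddOrderCharacters.VChar

variable {p : ℕ} [NeZero p] {G : Type*} [Group G]

/-- A nontrivial additive character sums to zero. -/
theorem sum_std (a : ZMod p) (ha : a ≠ 0) :
    ∑ k : ZMod p, (ZMod.stdAddChar (a * k) : ℂ) = 0 := by
  have h := AddChar.sum_mulShift (ψ := (ZMod.stdAddChar : AddChar (ZMod p) ℂ)) a
    (ZMod.isPrimitive_stdAddChar p)
  rw [if_neg ha] at h
  simpa [mul_comm] using h

/-- Change of the family at no index `a ≠ 0`. -/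
theorem congr {κ κ' : ZMod p → G → ℂ} (h : UInt p G κ) (hk : ∀ a, a ≠ 0 → ∀ g, κ' a g = κ a g) :
    UInt p G κ' := by
  obtain ⟨θ, h1, h2⟩ := h
  exact ⟨θ, h1, fun a ha g => by rw [hk a ha g, h2 a ha g]⟩

theorem congr_iff {κ κ' : ZMod p → G → ℂ} (hk : ∀ a, a ≠ 0 → ∀ g, κ' a g = κ a g) :
    UInt p G κ' ↔ UInt p G κ :=
  ⟨fun h => congr h fun a ha g => (hk a ha g).symm, fun h => congr h hk⟩

/-- A sum of twisted generalized characters over any finite set. -/
theorem of_sum {ι : Type*} (s : Finset ι) (t : ι → ZMod p) (χ : ι → G → ℂ)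
    (hχ : ∀ i ∈ s, IsGeneralizedCharacter G (χ i)) :
    UInt p G (fun a g => ∑ i ∈ s, (ZMod.stdAddChar (a * t i) : ℂ) * χ i g) := by
  classical
  refine ⟨fun k => ∑ i ∈ s with t i = k, χ i, fun k => gen_sum _ fun i hi =>
    hχ i (mem_filter.1 hi).1, fun a _ g => ?_⟩
  dsimp only
  rw [← sum_fiberwise s t]
  refine sum_congr rfl fun k _ => ?_
  rw [Finset.sum_apply, mul_sum]
  exact sum_congr rfl fun i hi => by rw [(mem_filter.1 hi).2]

/-- A generalized character (independent of `a`). -/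
theorem gen {θ : G → ℂ} (hθ : IsGeneralizedCharacter G θ) : UInt p G (fun _ => θ) := by
  refine congr (of_sum (p := p) (univ : Finset Unit) (fun _ => 0) (fun _ => θ) fun _ _ => hθ)
    fun a _ g => ?_
  simp

theorem zero : UInt p G (fun _ _ => 0) := gen gen_zero

theorem one : UInt p G (fun _ _ => 1) := gen gen_one

/-- An integral combination of powers of `ζ_p ^ a` is uniformly integral. -/
theorem scalar (m : ZMod p → ℤ) :
    UInt p G (fun a _ => ∑ k : ZMod p, (ZMod.stdAddChar (a * k) : ℂ) * (m k : ℂ)) := by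
  refine ⟨fun k => (m k : ℂ) • (1 : G → ℂ), fun k => gen_intCast_smul _ gen_one,
    fun a _ g => ?_⟩
  simp

theorem intConst (m : ℤ) : UInt p G (fun _ _ => (m : ℂ)) := by
  have h : IsGeneralizedCharacter G ((m : ℂ) • (1 : G → ℂ)) := gen_intCast_smul _ gen_one
  refine congr (gen (p := p) h) fun a _ g => ?_
  simp

theorem add {κ κ' : ZMod p → G → ℂ} (h : UInt p G κ) (h' : UInt p G κ') :
    UInt p G (fun a g => κ a g + κ' a g) := by
  obtain ⟨θ, h1, h2⟩ := h
  obtain ⟨θ', h1', h2'⟩ := h'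
  refine ⟨fun k => θ k + θ' k, fun k => gen_add (h1 k) (h1' k), fun a ha g => ?_⟩
  dsimp only
  rw [h2 a ha g, h2' a ha g, ← sum_add_distrib]
  exact sum_congr rfl fun k _ => by rw [Pi.add_apply, mul_add]

theorem neg {κ : ZMod p → G → ℂ} (h : UInt p G κ) : UInt p G (fun a g => -κ a g) := by
  obtain ⟨θ, h1, h2⟩ := h
  refine ⟨fun k => -θ k, fun k => gen_neg (h1 k), fun a ha g => ?_⟩
  dsimp only
  rw [h2 a ha g, ← sum_neg_distrib]
  exact sum_congr rfl fun k _ => by rw [Pi.neg_apply, mul_neg]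

theorem sub {κ κ' : ZMod p → G → ℂ} (h : UInt p G κ) (h' : UInt p G κ') :
    UInt p G (fun a g => κ a g - κ' a g) := by
  refine congr (add h (neg h')) fun a _ g => ?_
  rw [sub_eq_add_neg]

theorem sum {ι : Type*} (s : Finset ι) {κ : ι → ZMod p → G → ℂ} (h : ∀ i ∈ s, UInt p G (κ i)) :
    UInt p G (fun a g => ∑ i ∈ s, κ i a g) := by
  classical
  induction s using Finset.induction_on with
  | empty => simpa using zero
  | insert i s hi ih =>
    refine congr (add (h i (mem_insert_self i s)) (ih fun j hj => h j (mem_insert_of_mem hj)))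
      fun a _ g => ?_
    rw [sum_insert hi]

theorem mul {κ κ' : ZMod p → G → ℂ} (h : UInt p G κ) (h' : UInt p G κ') :
    UInt p G (fun a g => κ a g * κ' a g) := by
  obtain ⟨θ, h1, h2⟩ := h
  obtain ⟨θ', h1', h2'⟩ := h'
  refine congr (of_sum (p := p) (univ : Finset (ZMod p × ZMod p)) (fun x => x.1 + x.2)
    (fun x => θ x.1 * θ' x.2) fun x _ => gen_mul (h1 _) (h1' _)) fun a ha g => ?_
  rw [h2 a ha g, h2' a ha g, sum_mul_sum, ← univ_product_univ, sum_product]
  refine sum_congr rfl fun k _ => sum_congr rfl fun l _ => ?_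
  rw [mul_add, AddChar.map_add_eq_mul, Pi.mul_apply]
  ring

theorem prod {ι : Type*} (s : Finset ι) {κ : ι → ZMod p → G → ℂ}
    (h : ∀ i ∈ s, UInt p G (κ i)) : UInt p G (fun a g => ∏ i ∈ s, κ i a g) := by
  classical
  induction s using Finset.induction_on with
  | empty => simpa using one
  | insert i s hi ih =>
    refine congr (mul (h i (mem_insert_self i s)) (ih fun j hj => h j (mem_insert_of_mem hj)))
      fun a _ g => ?_
    rw [prod_insert hi]

theorem pow {κ : ZMod p → G → ℂ} (h : UInt p G κ) (n : ℕ) :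
    UInt p G (fun a g => κ a g ^ n) := by
  refine congr (prod (range n) (κ := fun _ => κ) fun _ _ => h) fun a _ g => ?_
  simp

/-- Multiplication by a generalized character. -/
theorem gen_mul_left {θ : G → ℂ} (hθ : IsGeneralizedCharacter G θ) {κ : ZMod p → G → ℂ}
    (h : UInt p G κ) : UInt p G (fun a g => θ g * κ a g) :=
  mul (gen hθ) h

theorem zsmul (m : ℤ) {κ : ZMod p → G → ℂ} (h : UInt p G κ) :
    UInt p G (fun a g => (m : ℂ) * κ a g) :=
  mul (intConst m) h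

/-- Composition with a homomorphism. -/
theorem comp {H : Type*} [Group H] (f : H →* G) {κ : ZMod p → G → ℂ} (h : UInt p G κ) :
    UInt p H (fun a x => κ a (f x)) := by
  obtain ⟨θ, h1, h2⟩ := h
  exact ⟨fun k => θ k ∘ f, fun k => gen_comp f (h1 k), fun a ha x => h2 a ha (f x)⟩

theorem restrict (H : Subgroup G) {κ : ZMod p → G → ℂ} (h : UInt p G κ) :
    UInt p H (fun a (x : H) => κ a x) :=
  comp H.subtype h

/-- Induction. -/
theorem ind [Fintype G] (H : Subgroup G) {κ : ZMod p → H → ℂ} (h : UInt p H κ) :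
    UInt p G (fun a => indFun H (κ a)) := by
  obtain ⟨θ, h1, h2⟩ := h
  refine ⟨fun k => indFun H (θ k), fun k => Brauer.isGeneralizedCharacter_indFun H (h1 k),
    fun a ha g => ?_⟩
  have h3 : κ a = ∑ k : ZMod p, (ZMod.stdAddChar (a * k) : ℂ) • θ k := by
    funext x
    rw [h2 a ha x, Finset.sum_apply]
    rfl
  show indFun H (κ a) g = _
  rw [h3, Brauer.indFun_sum, Finset.sum_apply]
  refine sum_congr rfl fun k _ => ?_
  rw [Brauer.indFun_smul]
  rfl

/-- The members of a uniformly integral family are class functions. -/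
theorem isClassFunction {κ : ZMod p → G → ℂ} (h : UInt p G κ) {a : ZMod p} (ha : a ≠ 0) :
    IsClassFunction G (κ a) := by
  obtain ⟨θ, h1, h2⟩ := h
  intro g x
  rw [h2 a ha, h2 a ha]
  exact sum_congr rfl fun k _ => by rw [gen_isClassFunction (h1 k) g x]

/-- The generalized characters may be taken to be characters. -/
theorem genuine {κ : ZMod p → G → ℂ} (h : UInt p G κ) :
    ∃ θ : ZMod p → G → ℂ, (∀ k, IsCharacter G (θ k)) ∧
      ∀ a, a ≠ 0 → ∀ g, κ a g = ∑ k : ZMod p, (ZMod.stdAddChar (a * k) : ℂ) * θ k g := by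
  classical
  obtain ⟨θ, h1, h2⟩ := h
  choose χ ψ h3 h4 h5 using h1
  refine ⟨fun k => χ k + ∑ j ∈ univ.erase k, ψ j, fun k => Core.isCharacter_add (h3 k)
    (Core.isCharacter_sum _ fun j _ => h4 j), fun a ha g => ?_⟩
  have h6 : ∀ k, (χ k + ∑ j ∈ univ.erase k, ψ j) g = θ k g + ∑ j, ψ j g := by
    intro k
    rw [h5 k, Pi.add_apply, Pi.sub_apply, Finset.sum_apply,
      ← add_sum_erase univ (fun j => ψ j g) (mem_univ k)]
    ring
  simp_rw [h6, mul_add]
  rw [sum_add_distrib, ← h2 a ha g, ← sum_mul, sum_std a ha, zero_mul, add_zero]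

/-- Change of the root of unity. -/
theorem scale {κ : ZMod p → G → ℂ} (h : UInt p G κ) (c : ZMod p) (hc : IsUnit c) :
    UInt p G (fun a => κ (c * a)) := by
  obtain ⟨θ, h1, h2⟩ := h
  refine congr (of_sum (p := p) (univ : Finset (ZMod p)) (fun k => c * k) θ fun k _ => h1 k)
    fun a ha g => ?_
  have h3 : c * a ≠ 0 := fun h0 => ha ((hc.mul_right_eq_zero).1 h0)
  rw [h2 _ h3 g]
  refine sum_congr rfl fun k _ => ?_
  rw [show c * a * k = a * (c * k) by ring]

/-- The Gauss sums of a linear character. -/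
theorem PG_lin (T : ℕ → ℕ → ZMod p) (f : ℕ) (c : ZMod p) (lam : G →* ℂ) :
    UInt p G (fun a g => PG p T f (c * a) (lam g)) := by
  refine congr (neg (of_sum (p := p) (range (p ^ f - 1)) (fun j => c * T f j)
    (fun j g => lam g ^ j) fun j _ => ?_)) fun a _ g => ?_
  · have h : IsCharacter G (fun g => (lam ^ j) g) := Brauer.isCharacter_of_monoidHom (lam ^ j)
    have h2 : (fun g => (lam ^ j) g) = fun g => lam g ^ j := by
      funext g
      simp
    rw [h2] at h
    exact gen_of_char h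
  · unfold PG
    congr 1
    refine sum_congr rfl fun j _ => ?_
    rw [show c * a * T f j = a * (c * T f j) by ring]

/-- The Gauss sums of a linear character with values in the units. -/
theorem PG_lin_units (T : ℕ → ℕ → ZMod p) (f : ℕ) (c : ZMod p) (lam : G →* ℂˣ) :
    UInt p G (fun a g => PG p T f (c * a) (lam g : ℂ)) :=
  PG_lin T f c ((Units.coeHom ℂ).comp lam)

/-- Multiplication of a family of class functions by an element of the span of the functions
induced from elementary subgroups. -/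
theorem mul_of_closure [Fintype G] {κ : ZMod p → G → ℂ}
    (hcl : ∀ a, a ≠ 0 → IsClassFunction G (κ a))
    (h : ∀ (E : Subgroup G) (ℓ : ℕ), ℓ.Prime → IsElementary ℓ E →
      UInt p E (fun a (e : E) => κ a e)) (u : G → ℂ)
    (hu : u ∈ AddSubgroup.closure {f : G → ℂ | ∃ (E : Subgroup G) (ℓ : ℕ) (φ : E → ℂ),
      ℓ.Prime ∧ IsElementary ℓ E ∧ IsCharacter E φ ∧ f = indFun E φ}) :
    UInt p G (fun a g => u g * κ a g) := by
  induction hu using AddSubgroup.closure_induction with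
  | mem x hx =>
    obtain ⟨E, ℓ, φ, hℓ, hE, hφ, rfl⟩ := hx
    refine congr (ind E (gen_mul_left (gen_of_char hφ) (h E ℓ hℓ hE))) fun a ha g => ?_
    have := Brauer.indFun_mul E φ (κ a) (hcl a ha)
    rw [← this]
    rfl
  | zero => exact congr zero fun a _ g => by simp
  | add x y _ _ hx hy =>
    exact congr (add hx hy) fun a _ g => by rw [Pi.add_apply, add_mul]
  | neg x _ hx => exact congr (neg hx) fun a _ g => by rw [Pi.neg_apply, neg_mul]

/-- Uniform integrality can be tested on the elementary subgroups. -/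
theorem glue [Finite G] {κ : ZMod p → G → ℂ} (hcl : ∀ a, a ≠ 0 → IsClassFunction G (κ a))
    (h : ∀ (E : Subgroup G) (ℓ : ℕ), ℓ.Prime → IsElementary ℓ E →
      UInt p E (fun a (e : E) => κ a e)) : UInt p G κ := by
  have : Fintype G := Fintype.ofFinite G
  refine congr (mul_of_closure hcl h 1 (Brauer.one_mem_brauer G)) fun a _ g => ?_
  simp

/-- The scalar products with a generalized character are uniformly integral. -/
theorem exists_int [Fintype G] {κ : ZMod p → G → ℂ} (h : UInt p G κ) {χ : G → ℂ}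
    (hχ : IsGeneralizedCharacter G χ) :
    ∃ m : ZMod p → ℤ, ∀ a, a ≠ 0 →
      (Nat.card G : ℂ)⁻¹ * ∑ g : G, χ g * κ a g =
        ∑ k : ZMod p, (ZMod.stdAddChar (a * k) : ℂ) * (m k : ℂ) := by
  obtain ⟨θ, h1, h2⟩ := h
  have h3 : ∀ k, ∃ n : ℤ, classInner χ (conjFun (θ k)) = n := fun k =>
    gen_inner hχ (gen_conjFun (h1 k))
  choose m hm using h3
  refine ⟨m, fun a ha => ?_⟩
  simp_rw [← hm]
  unfold classInner
  simp_rw [h2 a ha, mul_sum]
  rw [sum_comm]
  refine sum_congr rfl fun k _ => sum_congr rfl fun g _ => ?_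
  simp only [conjFun, Complex.conj_conj]
  ring

/-- The same for `classInner χ (conj κ)`. -/
theorem exists_int_classInner [Fintype G] {κ : ZMod p → G → ℂ} (h : UInt p G κ) {χ : G → ℂ}
    (hχ : IsGeneralizedCharacter G χ) :
    ∃ m : ZMod p → ℤ, ∀ a, a ≠ 0 →
      classInner χ (fun g => conj (κ a g)) =
        ∑ k : ZMod p, (ZMod.stdAddChar (a * k) : ℂ) * (m k : ℂ) := by
  obtain ⟨m, hm⟩ := exists_int h hχ
  refine ⟨m, fun a ha => ?_⟩
  rw [← hm a ha]
  unfold classInner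
  simp

/-- The values of a uniformly integral family are algebraic integers (finite groups). -/
theorem isIntegral [Finite G] {κ : ZMod p → G → ℂ} (h : UInt p G κ) {a : ZMod p} (ha : a ≠ 0)
    (g : G) : IsIntegral ℤ (κ a g) := by
  obtain ⟨θ, h1, h2⟩ := genuine h
  rw [h2 a ha g]
  refine IsIntegral.sum _ fun k _ => IsIntegral.mul ?_ ?_
  · have h3 : (ZMod.stdAddChar (a * k) : ℂ) ^ p = 1 := by
      rw [← AddChar.map_nsmul_eq_pow]
      simp
    exact IsIntegral.of_pow (Nat.pos_of_ne_zero (NeZero.ne p)) (by rw [h3]; exact isIntegral_one)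
  · obtain ⟨n, ρ, hρ⟩ := h1 k
    rw [← hρ]
    exact AverageRoots.isIntegral_character ρ g

end Cfsg.Agent.H688.KGV.UI
end

-- part: H174/KGV/Roots
section
/-!
Power sums over the `r`-th roots of a complex number.
-/

set_option autoImplicit false

namespace Cfsg.Agent.H174.KGV

open Finset Polynomial

theorem exists_pow_eq (r : ℕ) (hr : 0 < r) (b : ℂ) : ∃ w : ℂ, w ^ r = b := by
  obtain ⟨w, hw⟩ := IsAlgClosed.exists_pow_nat_eq b hr
  exact ⟨w, hw⟩

theorem card_nthRootsFinset_complex {r : ℕ} (hr : 0 < r) {b : ℂ} (hb : b ≠ 0) :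
    (nthRootsFinset r b).card = r := by
  classical
  have h := Complex.isPrimitiveRoot_exp r hr.ne'
  rw [nthRootsFinset_def, Multiset.toFinset_card_of_nodup (h.nthRoots_nodup hb), h.card_nthRoots,
    if_pos (exists_pow_eq r hr b)]

/-- Power sums of the `r`-th roots of `b`. -/
theorem sum_nthRoots_pow {r : ℕ} (hr : 0 < r) {b : ℂ} (hb : b ≠ 0) (n : ℕ) :
    ∑ w ∈ nthRootsFinset r b, w ^ n = if r ∣ n then (r : ℂ) * b ^ (n / r) else 0 := by
  classical
  split_ifs with h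
  · obtain ⟨m, rfl⟩ := h
    rw [Nat.mul_div_cancel_left m hr]
    rw [Finset.sum_congr rfl (g := fun _ => b ^ m) (fun w hw => by
      rw [mem_nthRootsFinset hr] at hw
      rw [pow_mul, hw])]
    rw [Finset.sum_const, card_nthRootsFinset_complex hr hb, nsmul_eq_mul]
  · have hω := Complex.isPrimitiveRoot_exp r hr.ne'
    set ω := Complex.exp (2 * Real.pi * Complex.I / r) with hωdef
    have hω1 : ω ^ n ≠ 1 := fun h1 => h (hω.dvd_of_pow_eq_one n h1)
    have h2 : ω ^ n * ∑ w ∈ nthRootsFinset r b, w ^ n = ∑ w ∈ nthRootsFinset r b, w ^ n := by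
      rw [Finset.mul_sum]
      refine Finset.sum_bij (fun w _ => ω * w) ?_ ?_ ?_ ?_
      · intro w hw
        rw [mem_nthRootsFinset hr] at hw ⊢
        rw [mul_pow, hw, hω.pow_eq_one, one_mul]
      · intro w _ w' _ h3
        exact mul_left_cancel₀ (hω.ne_zero hr.ne') h3
      · intro w hw
        refine ⟨ω⁻¹ * w, ?_, ?_⟩
        · rw [mem_nthRootsFinset hr] at hw ⊢
          rw [mul_pow, inv_pow, hω.pow_eq_one, inv_one, one_mul, hw]
        · rw [mul_inv_cancel_left₀ (hω.ne_zero hr.ne')]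
      · intro w _
        rw [mul_pow]
    have h3 : (ω ^ n - 1) * ∑ w ∈ nthRootsFinset r b, w ^ n = 0 := by
      rw [sub_mul, one_mul, h2, sub_self]
    exact (mul_eq_zero.mp h3).resolve_left (sub_ne_zero.mpr hω1)

/-- Raising to a power prime to `r` permutes the `r`-th roots of unity. -/
theorem prod_nthRoots_one_pow {r : ℕ} (hr : 0 < r) {n : ℕ} (hn : n.Coprime r) (F : ℂ → ℂ) :
    ∏ w ∈ nthRootsFinset r (1 : ℂ), F (w ^ n) = ∏ w ∈ nthRootsFinset r (1 : ℂ), F w := by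
  classical
  refine Finset.prod_bij (fun w _ => w ^ n) ?_ ?_ ?_ ?_
  · intro w hw
    rw [mem_nthRootsFinset hr] at hw ⊢
    rw [← pow_mul, mul_comm, pow_mul, hw, one_pow]
  · intro w hw w' hw' h
    rw [mem_nthRootsFinset hr] at hw hw'
    have hinj : ∃ m, ∀ x : ℂ, x ^ r = 1 → (x ^ n) ^ m = x := by
      rcases Nat.lt_or_ge 1 r with h1 | h1
      · obtain ⟨m, -, hm⟩ := Nat.exists_mul_mod_eq_one_of_coprime hn h1
        refine ⟨m, fun x hx => ?_⟩
        rw [← pow_mul, ← Nat.mod_add_div (n * m) r, hm, pow_add, pow_mul, hx, one_pow, mul_one,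
          pow_one]
      · have : r = 1 := by omega
        subst this
        refine ⟨1, fun x hx => ?_⟩
        rw [pow_one] at hx
        rw [hx, one_pow, one_pow]
    obtain ⟨m, hm⟩ := hinj
    rw [← hm w hw, ← hm w' hw', h]
  · intro w hw
    rw [mem_nthRootsFinset hr] at hw
    rcases Nat.lt_or_ge 1 r with h1 | h1
    · obtain ⟨m, -, hm⟩ := Nat.exists_mul_mod_eq_one_of_coprime hn h1
      refine ⟨w ^ m, ?_, ?_⟩
      · rw [mem_nthRootsFinset hr, ← pow_mul, mul_comm, pow_mul, hw, one_pow]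
      · rw [← pow_mul, mul_comm m n, ← Nat.mod_add_div (n * m) r, hm, pow_add, pow_mul, hw,
          one_pow, mul_one, pow_one]
    · have : r = 1 := by omega
      subst this
      rw [pow_one] at hw
      refine ⟨1, ?_, ?_⟩
      · rw [mem_nthRootsFinset hr, one_pow]
      · rw [hw, one_pow]
  · intro w _
    rfl

end Cfsg.Agent.H174.KGV
end

-- part: H174/KGV/SemiInd
section
/-!
# SEMI, step S3: eigenvalues of a semilinear induced character
-/

set_option autoImplicit false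

universe u

namespace Cfsg.Agent.H174.KGV

open Cfsg Finset Polynomial Cfsg.Agent.H644.KGV

section setting

variable {E : Type u} [Group E] {A : Subgroup E} [A.Normal] {t : E} {q : ℕ} {lam : A →* ℂˣ}

theorem twist_pow (htw : ∀ a b : A, (b : E) = t * a * t⁻¹ → lam b = lam a ^ q) (m : ℕ) :
    ∀ a b : A, (b : E) = t ^ m * a * (t ^ m)⁻¹ → lam b = lam a ^ (q ^ m) := by
  induction m with
  | zero =>
    intro a b h
    have : b = a := Subtype.ext (by rw [h]; simp)
    rw [this, pow_zero, pow_one]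
  | succ m ih =>
    intro a b h
    have h1 := ih a ⟨t ^ m * a * (t ^ m)⁻¹, Subgroup.Normal.conj_mem inferInstance _ a.2 _⟩ rfl
    rw [htw ⟨t ^ m * a * (t ^ m)⁻¹, Subgroup.Normal.conj_mem inferInstance _ a.2 _⟩ b
      (by rw [h, pow_succ']; group), h1, ← pow_mul, ← pow_succ]

omit [A.Normal] in
theorem lam_conj (a b c : A) (h : (b : E) = c * a * (c : E)⁻¹) : lam b = lam a := by
  have : b = c * a * c⁻¹ := Subtype.ext h
  rw [this, map_mul, map_mul, map_inv, mul_comm, inv_mul_cancel_left]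

theorem exists_repr [Finite E] (ht : A ⊔ Subgroup.zpowers t = ⊤) (x : E) :
    ∃ m < A.index, ∃ c : A, x = c * t ^ m := by
  have hx : x ∈ A ⊔ Subgroup.zpowers t := by rw [ht]; trivial
  obtain ⟨y, hy, z, hz, rfl⟩ := Subgroup.mem_sup_of_normal_left.mp hx
  obtain ⟨n, rfl⟩ := Subgroup.mem_zpowers_iff.mp hz
  have hs : (A.index : ℤ) ≠ 0 := by exact_mod_cast Subgroup.index_ne_zero_of_finite
  have hs0 : 0 < (A.index : ℤ) := by
    have := Nat.pos_of_ne_zero (Subgroup.index_ne_zero_of_finite (H := A))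
    exact_mod_cast this
  obtain ⟨m, hm⟩ := Int.eq_ofNat_of_zero_le (Int.emod_nonneg n hs)
  have hlt := Int.emod_lt_of_pos n hs0
  refine ⟨m, by omega, ⟨y * (t ^ A.index) ^ (n / A.index), A.mul_mem hy
    (A.zpow_mem (A.pow_index_mem t) _)⟩, ?_⟩
  show y * t ^ n = y * (t ^ A.index) ^ (n / A.index) * t ^ m
  rw [mul_assoc, ← zpow_natCast t m, ← hm, ← zpow_natCast t A.index, ← zpow_mul, ← zpow_add,
    Int.mul_ediv_add_emod]

/-- `b ^ (q ^ s) = b`. -/
theorem lam_pow_index [Finite E] (htw : ∀ a b : A, (b : E) = t * a * t⁻¹ → lam b = lam a ^ q)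
    (a : A) : lam a ^ (q ^ A.index) = lam a := by
  have h1 := twist_pow htw A.index a
    ⟨t ^ A.index * a * (t ^ A.index)⁻¹, Subgroup.Normal.conj_mem inferInstance _ a.2 _⟩ rfl
  rw [← h1]
  exact lam_conj a _ ⟨t ^ A.index, A.pow_index_mem t⟩ rfl

open Classical in
theorem indFun_mem [Finite E] [Fintype E] (ht : A ⊔ Subgroup.zpowers t = ⊤)
    (htw : ∀ a b : A, (b : E) = t * a * t⁻¹ → lam b = lam a ^ q) (g : A) :
    indFun A (fun x => (lam x : ℂ)) (g : E) = ∑ m ∈ range A.index, (lam g : ℂ) ^ (q ^ m) := by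
  let f : A × Fin A.index → E := fun y => ((y.1 : E) * t ^ (y.2 : ℕ))⁻¹
  have hsurj : Function.Surjective f := by
    intro x
    obtain ⟨m, hm, c, hc⟩ := exists_repr ht x⁻¹
    exact ⟨(c, ⟨m, hm⟩), by rw [← inv_inj, hc, inv_inv]⟩
  have hbij : Function.Bijective f := by
    have hfin : Finite A := inferInstance
    have : Fintype A := Fintype.ofFinite A
    rw [Fintype.bijective_iff_surjective_and_card]
    refine ⟨hsurj, ?_⟩
    rw [Fintype.card_prod, Fintype.card_fin, ← Nat.card_eq_fintype_card,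
      ← Nat.card_eq_fintype_card, A.card_mul_index]
  have : Fintype A := Fintype.ofFinite A
  have h1 : ∑ x : E, extendByZero A (fun x => (lam x : ℂ)) (x⁻¹ * g * x) =
      ∑ y : A × Fin A.index, (lam g : ℂ) ^ (q ^ (y.2 : ℕ)) := by
    symm
    refine Fintype.sum_bijective f hbij _ _ (fun y => ?_)
    have h2 : (f y)⁻¹ * g * f y = y.1 * (t ^ (y.2 : ℕ) * g * (t ^ (y.2 : ℕ))⁻¹) * (y.1 : E)⁻¹ := by
      simp only [f]
      group
    have h3 : (y.1 * (t ^ (y.2 : ℕ) * g * (t ^ (y.2 : ℕ))⁻¹) * (y.1 : E)⁻¹) =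
        (((y.1 * ⟨t ^ (y.2 : ℕ) * g * (t ^ (y.2 : ℕ))⁻¹,
          Subgroup.Normal.conj_mem inferInstance _ g.2 _⟩ * y.1⁻¹ : A)) : E) := rfl
    rw [h2, h3, extendByZero, Function.Injective.extend_apply Subtype.val_injective]
    have h5 := lam_conj (lam := lam) (⟨t ^ (y.2 : ℕ) * g * (t ^ (y.2 : ℕ))⁻¹,
          Subgroup.Normal.conj_mem inferInstance _ g.2 _⟩ : A)
        (y.1 * ⟨t ^ (y.2 : ℕ) * g * (t ^ (y.2 : ℕ))⁻¹,
          Subgroup.Normal.conj_mem inferInstance _ g.2 _⟩ * y.1⁻¹) y.1 rfl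
    have h6 := twist_pow htw (y.2 : ℕ) g (⟨t ^ (y.2 : ℕ) * g * (t ^ (y.2 : ℕ))⁻¹,
          Subgroup.Normal.conj_mem inferInstance _ g.2 _⟩ : A) rfl
    rw [h5, h6, Units.val_pow_eq_pow_val]
  have h4 : ∑ y : A × Fin A.index, (lam g : ℂ) ^ (q ^ (y.2 : ℕ)) =
      (Nat.card A : ℂ) * ∑ m ∈ range A.index, (lam g : ℂ) ^ (q ^ m) := by
    rw [Fintype.sum_prod_type]
    simp only [Finset.sum_const, Finset.card_univ, nsmul_eq_mul]
    rw [← Nat.card_eq_fintype_card]
    congr 1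
    exact Fin.sum_univ_eq_sum_range (fun m => (lam g : ℂ) ^ (q ^ m)) A.index
  rw [indFun, h1, h4, inv_mul_cancel_left₀ (by exact_mod_cast (Nat.card_pos (α := A)).ne')]

theorem indFun_notMem [Finite E] [Fintype E] {g : E} (hg : g ∉ A) :
    indFun A (fun x => (lam x : ℂ)) g = 0 := by
  rw [indFun, Finset.sum_eq_zero, mul_zero]
  intro x _
  rw [extendByZero, Function.extend_apply' _ _ _ ?_]
  · rfl
  · rintro ⟨a, ha⟩
    apply hg
    have h1 : x * (a : E) * x⁻¹ ∈ A := Subgroup.Normal.conj_mem inferInstance _ a.2 _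
    rw [ha] at h1
    have h2 : x * (x⁻¹ * g * x) * x⁻¹ = g := by group
    rwa [h2] at h1

/-- the order of `t A` is the index of `A` -/
theorem orderOf_mk_t [Finite E] (ht : A ⊔ Subgroup.zpowers t = ⊤) :
    orderOf (QuotientGroup.mk' A t) = A.index := by
  have h1 : Subgroup.zpowers (QuotientGroup.mk' A t) = ⊤ := by
    have h2 := congrArg (Subgroup.map (QuotientGroup.mk' A)) ht
    rw [Subgroup.map_sup, MonoidHom.map_zpowers] at h2
    have h3 : A.map (QuotientGroup.mk' A) = ⊥ := by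
      rw [Subgroup.map_eq_bot_iff, QuotientGroup.ker_mk']
    rw [h3, bot_sup_eq, Subgroup.map_top_of_surjective _ (QuotientGroup.mk'_surjective A)] at h2
    exact h2
  rw [← Nat.card_zpowers, h1, Subgroup.card_top]
  rfl

theorem order_dvd_index [Finite E] (h : E) : orderOf (QuotientGroup.mk' A h) ∣ A.index :=
  orderOf_dvd_natCard _

theorem pow_mem_iff [Finite E] (h : E) (j : ℕ) :
    h ^ j ∈ A ↔ orderOf (QuotientGroup.mk' A h) ∣ j := by
  rw [orderOf_dvd_iff_pow_eq_one, ← map_pow, QuotientGroup.mk'_apply, QuotientGroup.eq_one_iff]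

/-- `b ^ (q ^ (s / r)) = b`. -/
theorem b_fixed [Finite E] (ht : A ⊔ Subgroup.zpowers t = ⊤)
    (htw : ∀ a b : A, (b : E) = t * a * t⁻¹ → lam b = lam a ^ q) (h : E) (r : ℕ)
    (hr : orderOf (QuotientGroup.mk' A h) = r) (hh : h ^ r ∈ A) :
    lam ⟨h ^ r, hh⟩ ^ (q ^ (A.index / r)) = lam ⟨h ^ r, hh⟩ := by
  obtain ⟨m, -, c, hc⟩ := exists_repr ht h
  -- the order
  have h1 : r = A.index / Nat.gcd A.index m := by
    rw [← hr, ← orderOf_mk_t ht, ← orderOf_pow, ← map_pow]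
    congr 1
    rw [hc, map_mul]
    have : QuotientGroup.mk' A (c : E) = 1 := (QuotientGroup.eq_one_iff _).mpr c.2
    rw [this, one_mul]
  have hs : 0 < A.index := Nat.pos_of_ne_zero Subgroup.index_ne_zero_of_finite
  have h2 : A.index / r = Nat.gcd A.index m := by
    rw [h1]
    exact Nat.div_div_self (Nat.gcd_dvd_left _ _) hs.ne'
  -- `b ^ (q ^ m) = b`
  have h3 : lam ⟨h ^ r, hh⟩ ^ (q ^ m) = lam ⟨h ^ r, hh⟩ := by
    have h4 := twist_pow htw m ⟨h ^ r, hh⟩ ⟨t ^ m * h ^ r * (t ^ m)⁻¹,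
      Subgroup.Normal.conj_mem inferInstance _ hh _⟩ rfl
    rw [← h4]
    have h5 : h * h ^ r * h⁻¹ = h ^ r := by
      rw [← pow_succ', pow_succ, mul_inv_cancel_right]
    have h6 := lam_conj (lam := lam) ⟨t ^ m * h ^ r * (t ^ m)⁻¹,
      Subgroup.Normal.conj_mem inferInstance _ hh _⟩ ⟨h ^ r, hh⟩ c (by
        show h ^ r = c * (t ^ m * h ^ r * (t ^ m)⁻¹) * (c : E)⁻¹
        calc h ^ r = h * h ^ r * h⁻¹ := h5.symm
          _ = (c * t ^ m) * h ^ r * (c * t ^ m)⁻¹ := by rw [← hc]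
          _ = c * (t ^ m * h ^ r * (t ^ m)⁻¹) * (c : E)⁻¹ := by group)
    exact h6.symm
  have h7 := lam_pow_index htw ⟨h ^ r, hh⟩
  set b := lam ⟨h ^ r, hh⟩ with hb
  have hbN : 0 < orderOf b := by
    have hfin : Finite A := inferInstance
    rw [hb]
    exact orderOf_pos_iff.mpr (lam.isOfFinOrder (isOfFinOrder_of_finite (⟨h ^ r, hh⟩ : A)))
  have key : ∀ n : ℕ, b ^ (q ^ n) = b ↔ ((q : ZMod (orderOf b))) ^ n = 1 := by
    intro n
    nth_rewrite 2 [← pow_one b]
    rw [pow_eq_pow_iff_modEq, ← ZMod.natCast_eq_natCast_iff]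
    push_cast
    rfl
  rw [h2, key]
  rw [key] at h3 h7
  exact orderOf_dvd_iff_pow_eq_one.mp (Nat.dvd_gcd (orderOf_dvd_of_pow_eq_one h7)
    (orderOf_dvd_of_pow_eq_one h3))

omit [A.Normal] in
theorem coprime_index (hq : q.Coprime (Nat.card E)) : q.Coprime A.index :=
  Nat.Coprime.coprime_dvd_right A.index_dvd_card hq

theorem coprime_order [Finite E] (hq : q.Coprime (Nat.card E)) (h : E) :
    q.Coprime (orderOf (QuotientGroup.mk' A h)) :=
  Nat.Coprime.coprime_dvd_right (order_dvd_index h) (coprime_index hq)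

/-- Sums of periodic functions. -/
theorem sum_range_mul_periodic {M : Type*} [AddCommMonoid M] (f : ℕ → M) (d : ℕ)
    (hf : ∀ j, f (j + d) = f j) (k : ℕ) :
    ∑ j ∈ range (d * k), f j = k • ∑ j ∈ range d, f j := by
  have hf' : ∀ k j, f (d * k + j) = f j := by
    intro k
    induction k with
    | zero => intro j; rw [mul_zero, zero_add]
    | succ k ih =>
      intro j
      rw [← ih j, ← hf (d * k + j)]
      congr 1
      ring
  induction k with
  | zero => simp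
  | succ k ih =>
    rw [mul_add, mul_one, Finset.sum_range_add, ih, succ_nsmul]
    congr 1
    exact Finset.sum_congr rfl fun j _ => hf' k j

/-- The multiset of eigenvalues of the element `h` for the semilinear induced character. -/
noncomputable def eigM (q s r : ℕ) (b : ℂ) : Multiset ℂ :=
  (range (s / r)).val.bind fun i => (nthRootsFinset r b).val.map fun z => z ^ (q ^ i)

theorem sum_map_eigM (q s r : ℕ) (b : ℂ) (f : ℂ → ℂ) :
    ((eigM q s r b).map f).sum = ∑ i ∈ range (s / r), ∑ z ∈ nthRootsFinset r b, f (z ^ (q ^ i)) := by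
  rw [eigM, Multiset.map_bind, Multiset.sum_bind]
  simp only [Multiset.map_map]
  rfl

theorem prod_map_eigM (q s r : ℕ) (b : ℂ) (f : ℂ → ℂ) :
    ((eigM q s r b).map f).prod = ∏ i ∈ range (s / r), ∏ z ∈ nthRootsFinset r b, f (z ^ (q ^ i)) := by
  rw [eigM, Multiset.map_bind, Multiset.prod_bind]
  simp only [Multiset.map_map]
  rfl

theorem isEig_indFun [Finite E] [Fintype E] (ht : A ⊔ Subgroup.zpowers t = ⊤)
    (htw : ∀ a b : A, (b : E) = t * a * t⁻¹ → lam b = lam a ^ q)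
    (hq : q.Coprime (Nat.card E)) (h : E) (r : ℕ)
    (hr : orderOf (QuotientGroup.mk' A h) = r) (hh : h ^ r ∈ A) :
    IsEig (indFun A fun x => (lam x : ℂ)) h
      (eigM q A.index r ((lam ⟨h ^ r, hh⟩ : ℂˣ) : ℂ)) := by
  have hs : 0 < A.index := Nat.pos_of_ne_zero Subgroup.index_ne_zero_of_finite
  have hrs : r ∣ A.index := hr ▸ order_dvd_index h
  have hr0 : 0 < r := Nat.pos_of_dvd_of_pos hrs hs
  have hqr : q.Coprime r := hr ▸ coprime_order hq h
  have hbf := b_fixed ht htw h r hr hh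
  refine ⟨?_, ?_⟩
  · intro z hz
    rw [eigM, Multiset.mem_bind] at hz
    obtain ⟨i, -, hz⟩ := hz
    rw [Multiset.mem_map] at hz
    obtain ⟨w, hw, rfl⟩ := hz
    have hw' : w ^ r = ((lam ⟨h ^ r, hh⟩ : ℂˣ) : ℂ) := (mem_nthRootsFinset hr0 _).mp hw
    have hro : r ∣ orderOf h := by
      rw [← hr]
      exact orderOf_map_dvd _ h
    obtain ⟨u, hu⟩ := hro
    have h1 : w ^ orderOf h = 1 := by
      rw [hu, pow_mul, hw', ← Units.val_pow_eq_pow_val, ← map_pow]
      have h2 : (⟨h ^ r, hh⟩ : A) ^ u = 1 := by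
        apply Subtype.ext
        show (h ^ r) ^ u = 1
        rw [← pow_mul, ← hu, pow_orderOf_eq_one]
      rw [h2, map_one, Units.val_one]
    rw [← pow_mul, mul_comm, pow_mul, h1, one_pow]
  · intro n
    rw [sum_map_eigM]
    have hb0 : ((lam ⟨h ^ r, hh⟩ : ℂˣ) : ℂ) ≠ 0 := Units.ne_zero _
    have h1 : ∀ i, ∑ z ∈ nthRootsFinset r ((lam ⟨h ^ r, hh⟩ : ℂˣ) : ℂ), (z ^ (q ^ i)) ^ n =
        if r ∣ q ^ i * n then (r : ℂ) * ((lam ⟨h ^ r, hh⟩ : ℂˣ) : ℂ) ^ (q ^ i * n / r) else 0 := by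
      intro i
      rw [← sum_nthRoots_pow hr0 hb0]
      exact Finset.sum_congr rfl fun z _ => by rw [pow_mul]
    by_cases hn : r ∣ n
    · obtain ⟨m, rfl⟩ := hn
      have h2 : h ^ (r * m) = (((⟨h ^ r, hh⟩ : A) ^ m : A) : E) := by
        rw [pow_mul]; rfl
      rw [h2, indFun_mem ht htw]
      have h3 : ∀ i, ∑ z ∈ nthRootsFinset r ((lam ⟨h ^ r, hh⟩ : ℂˣ) : ℂ), (z ^ (q ^ i)) ^ (r * m) =
          (r : ℂ) * (((lam ((⟨h ^ r, hh⟩ : A) ^ m)) : ℂˣ) : ℂ) ^ (q ^ i) := by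
        intro i
        rw [h1 i, if_pos (Dvd.intro_left (q ^ i * m) (by ring)), map_pow, Units.val_pow_eq_pow_val,
          ← pow_mul]
        congr 2
        rw [show q ^ i * (r * m) = r * (m * q ^ i) by ring, Nat.mul_div_cancel_left _ hr0]
      rw [Finset.sum_congr rfl fun i _ => h3 i, ← Finset.mul_sum]
      have h4 := sum_range_mul_periodic
        (fun j => (((lam ((⟨h ^ r, hh⟩ : A) ^ m)) : ℂˣ) : ℂ) ^ (q ^ j)) (A.index / r) (by
          intro j
          show _ ^ (q ^ (j + A.index / r)) = _ ^ (q ^ j)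
          rw [← Units.val_pow_eq_pow_val, ← Units.val_pow_eq_pow_val]
          congr 1
          rw [map_pow, ← pow_mul, ← pow_mul,
            show m * q ^ (j + A.index / r) = q ^ (A.index / r) * (m * q ^ j) by rw [pow_add]; ring,
            pow_mul, hbf]) r
      rw [Nat.div_mul_cancel hrs, nsmul_eq_mul] at h4
      exact h4
    · rw [indFun_notMem (fun h2 => hn (by rw [← hr]; exact (pow_mem_iff h n).mp h2))]
      symm
      refine Finset.sum_eq_zero fun i _ => ?_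
      rw [h1 i, if_neg]
      intro h3
      exact hn ((Nat.Coprime.pow_left i hqr).symm.dvd_of_dvd_mul_left h3)

/-- **S3**: the product of `F` over the eigenvalues of the semilinear induced character. -/
theorem kap_ind [Finite E] [Fintype E] (ht : A ⊔ Subgroup.zpowers t = ⊤)
    (htw : ∀ a b : A, (b : E) = t * a * t⁻¹ → lam b = lam a ^ q)
    (hq : q.Coprime (Nat.card E)) (F : ℂ → ℂ) (h : E) (r : ℕ)
    (hr : orderOf (QuotientGroup.mk' A h) = r) (hh : h ^ r ∈ A) :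
    kap F (indFun A fun x => (lam x : ℂ)) h =
      ∏ i ∈ range (A.index / r), ∏ z ∈ nthRootsFinset r ((lam ⟨h ^ r, hh⟩ : ℂˣ) : ℂ),
        F (z ^ (q ^ i)) := by
  rw [← prod_map_eigM]
  show ((eig _ h).map F).prod = _
  rw [Cfsg.Agent.H500.KGV.isEig_eig_eq (isEig_indFun ht htw hq h r hr hh)]

end setting

end Cfsg.Agent.H174.KGV
end
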